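import Cfsg.Agent.Lib.SporRecognition.CosetCert.Chain
import Cfsg.Prelude.Def_Spor_Suz

/-! Generated coset-enumeration certificate: Suz over <a, b, c, d>, 280 cosets. -/

set_option autoImplicit false
set_option maxRecDepth 20000
set_option linter.all false
set_option Elab.async false

namespace CfsgLib.SporRecognition.Cert.SuzJ280

open CfsgLib.SporRecognition.CosetCert

def T1Lit : Nat := 0x8bc5a2b1489c0dff0987c39f6f685bca21057841a10e9893b1cee388b85b6e086bc5f2d66ac31a4d868c29f50765b318f0262b0e08bf80b697cbd802e9fcfc5dad99cb57eb9966f458be1eeb0573d5e6ab53b754aee77a7d52a276a71d69a75261589774395c8946fb89229049379b88c6ca29aed44434d0cc168211928367a099a953f320f680651e4f8c64db1132c2601c548bc37add72b8371ace4b445ac912af32ab4c8aa54298c0a03828cbc9d5097d3c5d3b9d8ea742ba352c7f49a3caa5447158d268339990e852512496813d1f4f04723168b258399a8da6c1f8f88240279389a373098cc4362e16c663221908a25029948582b170b47238261204c25229104421178ec743d1e0743e1e138d4681a0c8c46016148a054150a090461208880381b070602e0c0584c12100781c1a08050100a06018080200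
noncomputable def T1 (u : Nat) : Nat := Nat.land (Nat.shiftRight T1Lit (Nat.mul 9 u)) 511
def T2Lit : Nat := 0x8bc42190a83c4a09167dbea11157ac52050d89bbe0b117bc2602e56e389d0df87c39aad981b4e16f46bb3dcee6833298cec6a34180fd78bc200e45e3f972b87e30982ff5a369f0b279b59f2eb7b2b5a2ea7929954a05ebb93ca94ebb536af4cb79bae94b25596e349a49c2e047a391adb45b6112b0622b9a48555b35908753b39027f401f4f8cc3d3258e78629dd8673392fd7c705dae8dc6d5bad96a6a599a56288542195863311854aa35217d44a12ea7cb89c4d16cea744c25cac942aa45206c28a31145033998984b4220d04483f11cf6793b1148858209c4de4029948d6681d8e89a65320d86a602f0d0b459188c0ae54170b47a3c2793852281312892461208c8642100fc7c1f0f0a872380d8dc4a33190602e2f160ac281c1386832221083c201d0984822150b0281a08058380c0c028240e03020080200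
noncomputable def T2 (u : Nat) : Nat := Nat.land (Nat.shiftRight T2Lit (Nat.mul 9 u)) 511
def T3Lit : Nat := 0x8ac5a2f0b89c42151287c19f10c8a44606f082c3a0ef584badcb007936dc2d86b3b9f30d6a3da08e0713fd9908653e99ac581319a4bf5f36602bc71bcdfaf45b2ed6ace7f2cdccfc5a3ed60f7573a574aa53371daf14fbbd50a252ba9d89e4e2612eac7439d28e46f3452cb85bb7dbad76d23918d543b4d0ac04234106c94133d8e803f321029565b10f8c34d9e4ecc260ae540bd39a48e290362c8e4b1459acd065579915aab54a9d42a42fa8cc49d301c1345b2d264b27449a35227a2b950a68f451409e89271991086319f4c27b3f9248c453c1dcea42379007e6e368f8766a3499c704c25928bc3419974b844219605c562a948622b288e8724d1b8944848238c87a30179045a221e0803828138686c350c8b0422a0a8782c29098984610088743e0e0d8302e180505012120383c1a08058180a040100c0200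
noncomputable def T3 (u : Nat) : Nat := Nat.land (Nat.shiftRight T3Lit (Nat.mul 9 u)) 511
def T4Lit : Nat := 0x8bc3e171483405fafb8b3e612f58ac2a1b0277c4dd8e873c2224df6db8622e5883561cd878b4a18d6683c9eecb83b258d056235d7f0481af5f8da5dae5fcbe803099ab47fb9164f8753d1f4af56bd956f367a95baa978279dca04e3b534eb58b79549674b81cc9371a45c49547a6118dc4536586886a219a68468b05988753a059c903ea00f6c83cb28f0c73bb1512b638b01706f5e1b974a45b9ccd4b534acd32b0542b8c6ac329814ca236979465d509713e9d4d964ce58471592e554a248fe522ba35164e3a935064a429309082239f8f87a2210cec74359c8e03e1e9b0823a1c9a0cc621b1906e612f8c8625b2d0bca22d16150a62a149409e272492c4c23111188a202107c803f0e8f0761b1c0d432181a0cc2c3017050561c140484a24078842a1e0686816100b824260c088181c08020280607028040400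
noncomputable def T4 (u : Nat) : Nat := Nat.land (Nat.shiftRight T4Lit (Nat.mul 9 u)) 511
def T5Lit : Nat := 0x8bc4e2b0b8b41609077cc19ef0c8a3d5e1038843a251184399c8e374b7dbce26abbe1ed486bda14d16c34997097d32992da6cb11fec25ec097901803f176ba7f3f582c05b3b1d6f3592c1f6f869bc9e8af56ab1509f78bb9da9d54a7966ea4d3a1badc4c251cee570b8126924836d2e8e62b5d14d6682b99ece4421d8ecd43215067f3f1f0fa7a66319907945b0ceebf5a9cce0be5cae0deb736ad0e46b4dac4d2ab5529d4c6552990c45f5228d42a22f281385c4c968b0664b234ae95489551e5346145124f269d10882262049649401ec8e78229d8847538904dc3f360f0d43b340e0ce63308dcc0352e8ccb63017964ac2e2a0ac5452280a04e4e250989024230844044219003c1d1f0f4363a1c8d834340b85864310a0b4581314894220f118881c1f0e02c320a0c0541a07090401205060181004018080001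
noncomputable def T5 (u : Nat) : Nat := Nat.land (Nat.shiftRight T5Lit (Nat.mul 9 u)) 511

noncomputable def tabs : Cfsg.Spor.Suz.Gen → Bool → Nat → Nat :=
  fun a b => match a with
  | .a => bif b then T1 else T1
  | .b => bif b then T2 else T2
  | .c => bif b then T3 else T3
  | .d => bif b then T4 else T4
  | .e => bif b then T5 else T5
  | .f => bif b then (fun u => u) else (fun u => u)
  | .g => bif b then (fun u => u) else (fun u => u)

def lets : List (Cfsg.Spor.Suz.Gen × Bool) := [(.a, true), (.b, true), (.c, true), (.d, true), (.e, true)]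
def invols : List Cfsg.Spor.Suz.Gen := [.a, .b, .c, .d, .e, .f, .g]
def pairs : List (Cfsg.Spor.Suz.Gen × Cfsg.Spor.Suz.Gen) := [(.a, .a), (.a, .b), (.a, .c), (.a, .d), (.a, .e), (.a, .f), (.a, .g), (.b, .b), (.b, .c), (.b, .d), (.b, .e), (.b, .f), (.b, .g), (.c, .c), (.c, .d), (.c, .e), (.c, .f), (.c, .g), (.d, .d), (.d, .e), (.d, .f), (.d, .g), (.e, .e), (.e, .f), (.e, .g), (.f, .f), (.f, .g), (.g, .g)]
def extraW : List (List (Cfsg.Spor.Suz.Gen × Bool)) := [
  [(.a, true), (.d, false), (.c, false), (.d, false), (.c, false), (.d, false), (.c, false), (.d, false), (.c, false)],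
  [(.a, true), (.g, false), (.f, false), (.g, false), (.f, false)],
  [(.a, true), (.b, true), (.c, true), (.f, true), (.a, true), (.b, true), (.c, true), (.f, true), (.a, true), (.b, true), (.c, true), (.f, true), (.a, true), (.b, true), (.c, true), (.f, true), (.a, true), (.b, true), (.c, true), (.f, true)],
  [(.b, true), (.f, true), (.g, true), (.b, true), (.f, true), (.g, true), (.b, true), (.f, true), (.g, true), (.b, true), (.f, true), (.g, true), (.b, true), (.f, true), (.g, true)],
  [(.b, true), (.c, true), (.d, true), (.c, true), (.d, true), (.b, true), (.c, true), (.d, true), (.c, true), (.d, true), (.b, true), (.c, true), (.d, true), (.c, true), (.d, true), (.b, true), (.c, true), (.d, true), (.c, true), (.d, true), (.b, true), (.c, true), (.d, true), (.c, true), (.d, true), (.e, true), (.b, true), (.c, true), (.d, true), (.c, true), (.d, true), (.b, true), (.c, true), (.d, true), (.c, true), (.d, true), (.b, true), (.c, true), (.d, true), (.c, true), (.d, true), (.b, true), (.c, true), (.d, true), (.c, true), (.d, true), (.b, true), (.c, true),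 (.d, true), (.c, true), (.d, true), (.e, true), (.b, true), (.c, true), (.d, true), (.c, true), (.d, true), (.b, true), (.c, true), (.d, true), (.c, true), (.d, true), (.b, true), (.c, true), (.d, true), (.c, true), (.d, true), (.b, true), (.c, true), (.d, true), (.c, true), (.d, true), (.b, true), (.c, true), (.d, true), (.c, true), (.d, true), (.e, true)]]
def relW : List (List (Cfsg.Spor.Suz.Gen × Bool)) := [
  [(.a, true), (.a, true)],
  [(.a, true), (.b, true), (.a, true), (.b, true), (.a, true), (.b, true), (.a, true), (.b, true), (.a, true), (.b, true)],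
  [(.a, true), (.c, true), (.a, true), (.c, true)],
  [(.a, true), (.d, true), (.a, true), (.d, true)],
  [(.a, true), (.e, true), (.a, true), (.e, true)],
  [(.a, true), (.f, true), (.a, true), (.f, true)],
  [(.a, true), (.g, true), (.a, true), (.g, true)],
  [(.b, true), (.b, true)],
  [(.b, true), (.c, true), (.b, true), (.c, true), (.b, true), (.c, true)],
  [(.b, true), (.d, true), (.b, true), (.d, true)],
  [(.b, true), (.e, true), (.b, true), (.e, true)],
  [(.b, true), (.f, true), (.b, true), (.f, true), (.b, true), (.f, true)],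
  [(.b, true), (.g, true), (.b, true), (.g, true), (.b, true), (.g, true)],
  [(.c, true), (.c, true)],
  [(.c, true), (.d, true), (.c, true), (.d, true), (.c, true), (.d, true), (.c, true), (.d, true), (.c, true), (.d, true), (.c, true), (.d, true), (.c, true), (.d, true), (.c, true), (.d, true)],
  [(.c, true), (.e, true), (.c, true), (.e, true)],
  [(.c, true), (.f, true), (.c, true), (.f, true)],
  [(.c, true), (.g, true), (.c, true), (.g, true)],
  [(.d, true), (.d, true)],
  [(.d, true), (.e, true), (.d, true), (.e, true), (.d, true), (.e, true)],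
  [(.d, true), (.f, true), (.d, true), (.f, true)],
  [(.d, true), (.g, true), (.d, true), (.g, true)],
  [(.e, true), (.e, true)],
  [(.e, true), (.f, true), (.e, true), (.f, true)],
  [(.e, true), (.g, true), (.e, true), (.g, true)],
  [(.f, true), (.f, true)],
  [(.f, true), (.g, true), (.f, true), (.g, true), (.f, true), (.g, true), (.f, true), (.g, true)],
  [(.g, true), (.g, true)],
  [(.a, true), (.d, false), (.c, false), (.d, false), (.c, false), (.d, false), (.c, false), (.d, false), (.c, false)],
  [(.a, true), (.g, false), (.f, false), (.g, false), (.f, false)],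
  [(.a, true), (.b, true), (.c, true), (.f, true), (.a, true), (.b, true), (.c, true), (.f, true), (.a, true), (.b, true), (.c, true), (.f, true), (.a, true), (.b, true), (.c, true), (.f, true), (.a, true), (.b, true), (.c, true), (.f, true)],
  [(.b, true), (.f, true), (.g, true), (.b, true), (.f, true), (.g, true), (.b, true), (.f, true), (.g, true), (.b, true), (.f, true), (.g, true), (.b, true), (.f, true), (.g, true)],
  [(.b, true), (.c, true), (.d, true), (.c, true), (.d, true), (.b, true), (.c, true), (.d, true), (.c, true), (.d, true), (.b, true), (.c, true), (.d, true), (.c, true), (.d, true), (.b, true), (.c, true), (.d, true), (.c, true), (.d, true), (.b, true), (.c, true), (.d, true), (.c, true), (.d, true), (.e, true), (.b, true), (.c, true), (.d, true), (.c, true), (.d, true), (.b, true), (.c, true), (.d, true), (.c, true), (.d, true), (.b, true), (.c, true), (.d, true), (.c, true), (.d, true), (.b, true), (.c, true), (.d, true), (.c, true), (.d, true), (.b, true), (.c, true), (.d, true), (.c, true), (.d, true), (.e, true), (.b, true), (.c, true),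 (.d, true), (.c, true), (.d, true), (.b, true), (.c, true), (.d, true), (.c, true), (.d, true), (.b, true), (.c, true), (.d, true), (.c, true), (.d, true), (.b, true), (.c, true), (.d, true), (.c, true), (.d, true), (.b, true), (.c, true), (.d, true), (.c, true), (.d, true), (.e, true)]]
def subW : List (List (Cfsg.Spor.Suz.Gen × Bool)) := [
  [(.a, true)],
  [(.b, true)],
  [(.c, true)],
  [(.d, true)]]

end CfsgLib.SporRecognition.Cert.SuzJ280
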